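import Mathlib
import Cfsg.Agent.Lib.PF.Sec8.Interface
import Cfsg.Agent.Lib.OddMax.Sec16.Decomp
import Cfsg.Agent.Lib.OddMax.Sec16.Fitting
import Cfsg.Agent.Lib.OddMax.Sec13.Basic
import Cfsg.Agent.Lib.OddMax.Sec16.ThmE1

/-!
# Every maximal subgroup has a type, given the characterisations of the types
-/

set_option autoImplicit false

namespace Cfsg.Agent.Lib.PF.Sec8

open Cfsg Subgroup
open Cfsg.Agent.Lib.OddMax
open scoped commutatorElement

universe u

variable {G : Type u} [Group G] [Finite G]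

/-- The five types exhaust the maximal subgroups. -/
theorem exists_type {Q : Subgroup G → Prop} (hG : IsMinSimpleOddOrder G) {M : Subgroup G} (hM : IsCoatom M)
    (hI : ∀ K U : Subgroup G, IsSigmaDecomposition M K U → K = ⊥ ∧ U ≠ ⊥ → Q M)
    (hII : ∀ K U : Subgroup G, IsSigmaDecomposition M K U → K ≠ ⊥ ∧ U ≠ ⊥ → IsOfTypeII M)
    (hIII : ∀ K U : Subgroup G, IsSigmaDecomposition M K U →
      K ≠ ⊥ ∧ U = ⊥ ∧ fittingHallOf M ≠ sigmaCore M → IsOfTypeIII M ∨ IsOfTypeIV M)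
    (hV : ∀ K U : Subgroup G, IsSigmaDecomposition M K U →
      K ≠ ⊥ ∧ U = ⊥ ∧ fittingHallOf M = sigmaCore M → IsOfTypeV M) :
    Q M ∨ IsOfTypeII M ∨ IsOfTypeIII M ∨ IsOfTypeIV M ∨ IsOfTypeV M := by
  obtain ⟨K, hK⟩ := Sec16.exists_kappa_hall hG hM
  obtain ⟨U, hKU⟩ := Sec16.exists_decomposition hG hM (Sec16.isCyclic_kappa_hall hG hM hK) hK
  by_cases hU : U = ⊥
  · by_cases hK1 : K = ⊥
    · exfalso
      subst hK1 hU
      have hle : M ≤ sigmaCore M := fun m hm => by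
        obtain ⟨a, ha, b, hb, rfl⟩ := hKU.compl.2.2.2 m hm
        rw [Subgroup.mem_bot.mp ha, one_mul]
        exact (sup_le bot_le le_rfl : (⊥ : Subgroup G) ⊔ sigmaCore M ≤ sigmaCore M) hb
      exact ((hle.trans (Sec13.sigmaCore_le_derived hG hM)).trans_lt (Sec16.derived_lt hG hM)).false
    · by_cases hF : fittingHallOf M = sigmaCore M
      · exact Or.inr (Or.inr (Or.inr (Or.inr (hV K U hKU ⟨hK1, hU, hF⟩))))
      · exact (hIII K U hKU ⟨hK1, hU, hF⟩).elim (fun h => Or.inr (Or.inr (Or.inl h)))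
          fun h => Or.inr (Or.inr (Or.inr (Or.inl h)))
  · by_cases hK1 : K = ⊥
    · exact Or.inl (hI K U hKU ⟨hK1, hU⟩)
    · exact Or.inr (Or.inl (hII K U hKU ⟨hK1, hU⟩))

end Cfsg.Agent.Lib.PF.Sec8
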