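import Mathlib
import Cfsg.Agent.Lib.PF.Sec8.Weak
import Cfsg.Agent.Lib.PF.Sec8.Supports
import Cfsg.Agent.Lib.OddMax.Sec16.TypesStrict
import Cfsg.Agent.Lib.PF.Sec12.Local.Assemble
import Cfsg.Agent.Lib.PF.Sec12.Local.TypeV.Fixed

/-!
# Type I in the strict and in the printed sense agree on maximal subgroups
-/

set_option autoImplicit false

namespace Cfsg.Agent.Lib.PF.Sec8

open Cfsg Subgroup
open Cfsg.Agent.Lib.OddMax

universe u

variable {G : Type u} [Group G] [Finite G] {M S T : Subgroup G}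

/-- On maximal subgroups the two readings of type I agree. -/
theorem weakTypeI_iff_typeI (hG : IsMinSimpleOddOrder G) (hM : IsCoatom M) :
    Sec16.IsWeakTypeI M ↔ IsOfTypeI M := by
  obtain ⟨K, U, hU⟩ := Sec16.exists_sigmaDecomposition hG hM
  refine ⟨fun h => ?_, fun h => Sec16.weakTypeI_of_bot hG hM hU (Sec16.bot_of_isOfTypeI hG hM hU h)⟩
  have hK : K = ⊥ := Sec16.ThmII.forcesBot_weakTypeI hG M K U hM hU h
  exact Sec16.typeI_of_frobenius hG hM hU hK (Sec16.frobenius_fittingHall_of_sigma hG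
    (Cfsg.Agent.Lib.PF.Sec12.frobenius_of_typeV hG
      (fun _ _ _ _ _ h' hκ hF => h'.exists_witness_of_typeV hκ hF)) hM hU hK)

theorem setA_weak_eq (hG : IsMinSimpleOddOrder G) (hM : IsCoatom M) :
    setA Sec16.IsWeakTypeI M = typeA M := by
  rw [setA, typeA]
  by_cases h : IsOfTypeI M
  · rw [if_pos h, if_pos ((weakTypeI_iff_typeI hG hM).mpr h)]
  · rw [if_neg h, if_neg (mt (weakTypeI_iff_typeI hG hM).mp h)]

theorem supportsFor_weak_iff (hG : IsMinSimpleOddOrder G) (hS : IsCoatom S) :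
    SupportsFor Sec16.IsWeakTypeI T S ↔ Supports T S := by
  simp only [SupportsFor, Supports, setA0, typeA0, setA_weak_eq hG hS,
    weakTypeI_iff_typeI hG hS]

end Cfsg.Agent.Lib.PF.Sec8
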